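import Mathlib

/-!
Integer 8 × 8 matrices packed in natural numbers, with products checked by evaluation.
-/

set_option autoImplicit false

namespace H52.E8

open Matrix

abbrev ι : Type := Fin 4 ⊕ Fin 4

abbrev M : Type := Matrix ι ι ℤ

def ix : ι → ℕ := Sum.elim (fun i => i.val) (fun i => i.val + 4)

/-- a signed five-bit field -/
def raw (n k : ℕ) : ℕ := Nat.land (Nat.shiftRight n (Nat.mul 5 k)) 31

def fld (n k : ℕ) : ℤ := Int.subNatNat (raw n k) 16

theorem raw_lt (n k : ℕ) : raw n k < 32 := Nat.lt_succ_of_le Nat.and_le_right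

theorem fld_eq (n k : ℕ) : fld n k = (raw n k : ℤ) - 16 := Int.subNatNat_eq_coe

def ent (n i j : ℕ) : ℤ := fld n (Nat.add (Nat.mul 8 i) j)

def dec (n : ℕ) : M := Matrix.of fun i j => ent n (ix i) (ix j)

def vec (n : ℕ) : ι → ℤ := fun i => fld n (ix i)

theorem dec_apply (n : ℕ) (i j : ι) : dec n i j = ent n (ix i) (ix j) := rfl

def s8 (f : ℕ → ℤ) : ℤ :=
  Int.add (Int.add (Int.add (f 0) (f 1)) (Int.add (f 2) (f 3)))
    (Int.add (Int.add (f 4) (f 5)) (Int.add (f 6) (f 7)))

theorem sum_ix (f : ℕ → ℤ) : ∑ k : ι, f (ix k) = s8 f := by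
  simp only [Fintype.sum_sum_type, Fin.sum_univ_four, ix, Sum.elim_inl, Sum.elim_inr, s8,
    Int.add_def]
  norm_num
  ring

def a8 (p : ℕ → Bool) : Bool := p 0 && (p 1 && (p 2 && (p 3 && (p 4 && (p 5 && (p 6 && p 7))))))

theorem a8_ix {p : ℕ → Bool} (h : a8 p = true) (i : ι) : p (ix i) = true := by
  simp only [a8, Bool.and_eq_true] at h
  obtain ⟨h0, h1, h2, h3, h4, h5, h6, h7⟩ := h
  rcases i with i | i <;> fin_cases i <;> assumption

noncomputable def force {α : Type} (x : ℕ) (f : ℕ → α) : α :=
  Nat.rec (motive := fun _ => α) (f 0) (fun k _ => f k) (Nat.succ x)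

theorem force_eq {α : Type} (x : ℕ) (f : ℕ → α) : force x f = f x := rfl

def n8 (f : ℕ → ℕ) (s : ℕ) : ℕ :=
  Nat.add (f 0) (Nat.mul s (Nat.add (f 1) (Nat.mul s (Nat.add (f 2) (Nat.mul s (Nat.add (f 3)
    (Nat.mul s (Nat.add (f 4) (Nat.mul s (Nat.add (f 5) (Nat.mul s (Nat.add (f 6)
      (Nat.mul s (f 7))))))))))))))

theorem dig {s a b A B : ℕ} (ha : a < s) (hb : b < s) (h : a + s * A = b + s * B) :
    a = b ∧ A = B := by
  have h1 := congrArg (· % s) h
  simp only [Nat.add_mul_mod_self_left, Nat.mod_eq_of_lt ha, Nat.mod_eq_of_lt hb] at h1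
  subst h1
  exact ⟨rfl, Nat.eq_of_mul_eq_mul_left (by omega) (Nat.add_left_cancel h)⟩

theorem n8_inj {f g : ℕ → ℕ} {s : ℕ} (hf : ∀ j, f j < s) (hg : ∀ j, g j < s)
    (h : n8 f s = n8 g s) (j : ι) : f (ix j) = g (ix j) := by
  obtain ⟨h0, h⟩ := dig (hf 0) (hg 0) h
  obtain ⟨h1, h⟩ := dig (hf 1) (hg 1) h
  obtain ⟨h2, h⟩ := dig (hf 2) (hg 2) h
  obtain ⟨h3, h⟩ := dig (hf 3) (hg 3) h
  obtain ⟨h4, h⟩ := dig (hf 4) (hg 4) h
  obtain ⟨h5, h⟩ := dig (hf 5) (hg 5) h
  obtain ⟨h6, h7⟩ := dig (hf 6) (hg 6) h
  rcases j with j | j <;> fin_cases j <;> assumption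

def r2 (n i j : ℕ) : ℕ := raw n (Nat.add (Nat.mul 8 i) j)

theorem r2_lt (n i j : ℕ) : r2 n i j < 32 := raw_lt _ _

theorem ent_eq (n i j : ℕ) : ent n i j = (r2 n i j : ℤ) - 16 := fld_eq _ _

/-- a row with wide fields -/
def row (n i : ℕ) : ℕ := n8 (r2 n i) 65536

def t8 (f : ℕ → ℕ) : ℕ :=
  Nat.add (Nat.add (Nat.add (f 0) (f 1)) (Nat.add (f 2) (f 3)))
    (Nat.add (Nat.add (f 4) (f 5)) (Nat.add (f 6) (f 7)))

/-- pass on the wide rows of a code -/
noncomputable def rows {α : Type} (b : ℕ) (k : ℕ → ℕ → ℕ → ℕ → ℕ → ℕ → ℕ → ℕ → ℕ → α) : α :=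
  force (row b 0) fun r0 => force (row b 1) fun r1 => force (row b 2) fun r2 =>
  force (row b 3) fun r3 => force (row b 4) fun r4 => force (row b 5) fun r5 =>
  force (row b 6) fun r6 => force (row b 7) fun r7 =>
  force (Nat.mul 16 (Nat.add (Nat.add (Nat.add r0 r1) (Nat.add r2 r3))
    (Nat.add (Nat.add r4 r5) (Nat.add r6 r7)))) fun s => k r0 r1 r2 r3 r4 r5 r6 r7 s

def lin (x : ℕ → ℕ) (r0 r1 r2 r3 r4 r5 r6 r7 : ℕ) : ℕ :=
  Nat.add (Nat.add (Nat.add (Nat.add (Nat.mul (x 0) r0) (Nat.mul (x 1) r1))
    (Nat.add (Nat.mul (x 2) r2) (Nat.mul (x 3) r3))) (Nat.add (Nat.add (Nat.mul (x 4) r4)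
    (Nat.mul (x 5) r5)) (Nat.add (Nat.mul (x 6) r6) (Nat.mul (x 7) r7))))
    0x8100810081008100810081008100810

def off (x : ℕ → ℕ) (s : ℕ) : ℕ := Nat.add (Nat.mul (t8 x) 0x100010001000100010001000100010) s

/-- the rows `x i` times the matrix `b` are the rows of `c` -/
noncomputable def genEq (x : ℕ → ℕ → ℕ) (b c : ℕ) : Bool :=
  rows b fun r0 r1 r2 r3 r4 r5 r6 r7 s => a8 fun i =>
    Nat.beq (lin (x i) r0 r1 r2 r3 r4 r5 r6 r7) (Nat.add (off (x i) s) (row c i))

theorem genEq_sound {x : ℕ → ℕ → ℕ} (hx : ∀ i k, x i k < 32) {b c : ℕ} (h : genEq x b c = true)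
    (i j : ι) : s8 (fun k => ((x (ix i) k : ℤ) - 16) * ent b k (ix j)) = ent c (ix i) (ix j) := by
  simp only [genEq, rows, force_eq] at h
  have h1 := Nat.eq_of_beq_eq_true (a8_ix h i)
  generalize ix i = I at h1 ⊢
  have h2 := n8_inj (s := 65536) (f := fun j => t8 (fun k => x I k * r2 b k j) + 2064)
    (g := fun j => 16 * t8 (x I) + 16 * t8 (fun k => r2 b k j) + r2 c I j) (fun j => by
      have q : ∀ k, x I k * r2 b k j ≤ 31 * 31 := fun k =>
        Nat.mul_le_mul (Nat.le_of_lt_succ (hx I k)) (Nat.le_of_lt_succ (r2_lt b k j))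
      have := q 0; have := q 1; have := q 2; have := q 3
      have := q 4; have := q 5; have := q 6; have := q 7
      simp only [t8, Nat.add_eq]
      omega) (fun j => by
      have := hx I 0; have := hx I 1; have := hx I 2; have := hx I 3
      have := hx I 4; have := hx I 5; have := hx I 6; have := hx I 7
      have := r2_lt b 0 j; have := r2_lt b 1 j; have := r2_lt b 2 j; have := r2_lt b 3 j
      have := r2_lt b 4 j; have := r2_lt b 5 j; have := r2_lt b 6 j; have := r2_lt b 7 j
      have := r2_lt c I j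
      simp only [t8, Nat.add_eq]
      omega) (by
      simp only [lin, off, row, n8, t8, Nat.add_eq, Nat.mul_eq] at h1 ⊢
      linarith) j
  simp only [t8, Nat.add_eq] at h2
  zify at h2
  simp only [s8, Int.add_def, ent_eq]
  linarith

noncomputable def mulEq (a b c : ℕ) : Bool := genEq (r2 a) b c

noncomputable def tmulEq (a b c : ℕ) : Bool := genEq (fun i k => r2 a k i) b c

theorem mulEq_sound {a b c : ℕ} (h : mulEq a b c = true) : dec a * dec b = dec c := by
  ext i j
  rw [Matrix.mul_apply]
  refine (sum_ix fun k => ent a (ix i) k * ent b k (ix j)).trans ?_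
  rw [dec_apply]
  simpa only [ent_eq a] using genEq_sound (r2_lt a) h i j

theorem tmulEq_sound {a b c : ℕ} (h : tmulEq a b c = true) : (dec a)ᵀ * dec b = dec c := by
  ext i j
  rw [Matrix.mul_apply]
  refine (sum_ix fun k => ent a k (ix i) * ent b k (ix j)).trans ?_
  rw [dec_apply]
  simpa only [ent_eq a] using genEq_sound (fun i k => r2_lt a k i) h i j

/-- the code of the product (only trusted after a check) -/
noncomputable def mulN (a b : ℕ) : ℕ :=
  rows b fun r0 r1 r2' r3 r4 r5 r6 r7 s => n8 (fun i =>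
    force (Nat.sub (lin (r2 a i) r0 r1 r2' r3 r4 r5 r6 r7) (off (r2 a i) s)) fun y =>
      n8 (fun j => Nat.land (Nat.shiftRight y (Nat.mul 16 j)) 31) 32) 0x10000000000

/-- evaluate a product and pass its code on -/
noncomputable def ev (l : List ℕ) : ℕ → (ℕ → Bool) → Bool :=
  List.rec (motive := fun _ => ℕ → (ℕ → Bool) → Bool) (fun a k => k a)
    (fun x _ ih a k => force (mulN a x) fun y => mulEq a x y && ih y k) l

theorem ev_cons (x : ℕ) (l : List ℕ) (a : ℕ) (k : ℕ → Bool) :
    ev (x :: l) a k = force (mulN a x) fun y => mulEq a x y && ev l y k := rfl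

theorem ev_sound {l : List ℕ} {a : ℕ} {k : ℕ → Bool} (h : ev l a k = true) :
    ∃ c, dec a * (l.map dec).prod = dec c ∧ k c = true := by
  induction l generalizing a with
  | nil => exact ⟨a, by simp, h⟩
  | cons x l ih =>
    have h' := h
    rw [ev_cons, force_eq, Bool.and_eq_true] at h'
    obtain ⟨c, h1, h2⟩ := ih h'.2
    exact ⟨c, by rw [List.map_cons, List.prod_cons, ← mul_assoc, mulEq_sound h'.1, h1], h2⟩

/-- `a * b = c * d` -/
noncomputable def eq2 (a b c d : ℕ) : Bool := force (mulN a b) fun y => mulEq a b y && mulEq c d y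

theorem eq2_sound {a b c d : ℕ} (h : eq2 a b c d = true) : dec a * dec b = dec c * dec d := by
  have h' := h
  rw [eq2, force_eq, Bool.and_eq_true] at h'
  rw [mulEq_sound h'.1, mulEq_sound h'.2]

def same (a b : ℕ) : Bool := a8 fun i => a8 fun j => decide (ent a i j = ent b i j)

theorem a8_of {p : ℕ → Bool} (h : ∀ i : ι, p (ix i) = true) : a8 p = true := by
  simp only [a8, Bool.and_eq_true]
  exact ⟨h (.inl 0), h (.inl 1), h (.inl 2), h (.inl 3), h (.inr 0), h (.inr 1), h (.inr 2),
    h (.inr 3)⟩

theorem same_of_eq {a b : ℕ} (h : dec a = dec b) : same a b = true :=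
  a8_of fun i => a8_of fun j => decide_eq_true (congrFun (congrFun h i) j)

theorem ne_of_same {a b : ℕ} (h : same a b = false) : dec a ≠ dec b := fun e => by
  rw [same_of_eq e] at h; cases h

def cI : ℕ := 0x8c21084210846108421084230842108421184210842108c210842108461084210842308421084211
def cN : ℕ := 0x7c2108421083e1084210841f0842108420f84210842107c2108421083e1084210841f0842108420f
def c4 : ℕ := 0xa42108421085210842108429084210842148421084210a4210842108521084210842908421084214
def cA : ℕ := 0xa41d09ca10851ce93dd073a9273a7283a548424f9c9d0a421093dd0851ce83a7283a928424f83a54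
def cAi : ℕ := 0xe52903a9cca51d253e50a3b8aa396a84954642533aa8ce51d053dd0a52527497274a926415384a54
def cF : ℕ := 0x75252942908421294a5084a5092a10842108521093a0e73190939d0841d0839d284a108bdef7cdf1
def cB : ℕ := 0x949cf949d093a1184a1084a1193a10942119425074251742108421184210849cd841d08424f83a54
def cU : ℕ := 0x942108421084a108421073a508421083a52842109c9d09421093dd084a1083a7283a508424f83a52
def cS : ℕ := 0x8c21193a4c83e108c22e845f4836108420e84a0f7c611741d483e107c5f283a2f846108420e849f1
def cSi : ℕ := 0x941f08c9f09c9d09c9d0acdb0acdd0ad1b0ad1b09cdcf9c9d1b5590b5590a518fa518f949cf949d0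
def rootT : ℕ := 0x6bdb18c6328be6f8bdcf00000000008c62f7c22f000000000000000000009c5f16ba107c5f184631000000000000000000007be2f9461000000000007be2f941f08c5f17421100000000008c5b26be317c5b27c63200000000000000000000000000000000000000007bdf08c2118c6307c210000000000000000000009c63073e0f7c5f0846509c630739ef8c5f074230000000000000000000008be4f8bdef00000000007c5d17c651000000000000000000009c6116b9f000000000007be0f8c21000000000007be4f945f000000000006bdd1946128c5d17423100000000008c64f8420f000000000000000000000000000000000000000000000000007be108c1f18c6107c2309c6106ba0f8c6107c2109c65073def7c610846308c5d273e117c5927465200000000000000000000000000000000000000008c1f17bdf1000000000000000000007c22f8c6108c26f8c1ef000000000000000000006c1b18ca5200000000009c9f163e308c22f83e0f000000000000000000007ba2f941f07c1f1842110000000000000000000000000000009ca306be0f8c1f07be10000000000000000000008c9b26c2517c1b27c2127c1f0846318c23083df0000000000000000000009c230739ef8c230841f00000000000000000000000000000007c20f8c63000000000009ca116be1000000000006c1d18ca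3200000000007ba4f9c1d08c24f83def00000000008c1d173e1100000000007c1d18423100000000008c24f8420f00000000009ca106be2f8c2107bdf07c2108c6118c2107be108c9d26c2317c1927c2329c2507b9cf7c2108c21000000000000000000000000000000000000000000000000000000000000000000000000000000000845f17c6310000000000000000000073e2f9c610000000000083e2f8c1f0845f17c211000000000083df183df10000000000000000000073e2f946100000000000a466f739ee845b174251000000000000000000000000000000946307be0f845f07c650a46306b9ef845f07c23000000000000000000000000000000000000000009463073e0f846308461083e6e941ef845b27423200000000000000000000000000000073e4f9c5f0000000000073dd18c612845d17c23100000000009464f7c20f0000000000000000000073e0f9463000000000009461173e10845d174231000000000093e4f839cf0000000000946507bdef846107c630945d26be11745927c65200000000000000000000000000000000000000009461073e2f846108463073e10946119461073e1000000000000000000000000000000000000000000000000000949f16be309422f7be0f0000000000000000000073a2f9c1f0841f17c21100000000000000000000741b1846329426f83dcf000000000000000000007422f94a30841f1842110000000000741f08c631942307bdf000000000000000000000942307b9ef842308c1f000000000000000000000949b263e319426e83dee0000000000000000000094a307422f84230841f0000000000000000000009424f7bdef0000000000841d17be110000000000841d17c23100000000008424f8c20f00000000009424f83def0000000000849d174651000000000084211841f1000000000063a0fa4a1100000000000000000000000000000000000000000000000000000000000000000000000000000000000000000000000000000000000000000000000000000000000000000000000000000000000000000000000000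

theorem dec_cI : dec cI = 1 := by decide +kernel

theorem dec_cN : dec cN = -1 := by decide +kernel

theorem dec_c4 : dec c4 = (4 : ℤ) • (1 : M) := by decide +kernel

/-- the check that a code preserves the form -/
noncomputable def isW (a : ℕ) : Bool := force (mulN cA a) fun x => mulEq cA a x && tmulEq a x cA

theorem isW_sound {a : ℕ} (h : isW a = true) : (dec a)ᵀ * dec cA * dec a = dec cA := by
  have h' := h
  rw [isW, force_eq, Bool.and_eq_true] at h'
  rw [mul_assoc, mulEq_sound h'.1, tmulEq_sound h'.2]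

def trN (a : ℕ) : ℤ := s8 fun k => ent a k k

theorem trace_dec (a : ℕ) : (dec a).trace = trN a := sum_ix fun k => ent a k k

end H52.E8
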