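import Cfsg.Agent.Lib.E8W.Model

/-!
Elements of `W` and `L0` given by codes.
-/

set_option autoImplicit false
set_option linter.style.haveILetI false

namespace H52.E8

open Matrix QuadraticMap H12

def IsW (n : ℕ) : Prop := (dec n)ᵀ * A * dec n = A

theorem isW_of {n : ℕ} (h : isW n = true) : IsW n := isW_sound h

open Classical in
/-- the element of `W` with a given code -/
noncomputable def E (n : ℕ) : W := if h : IsW n then mkW (dec n) h else 1

theorem mat_E {n : ℕ} (h : IsW n) : mat (E n) = dec n := by rw [E, dif_pos h]; rfl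

theorem eq_E {g : W} {n : ℕ} (h : mat g = dec n) : IsW n ∧ g = E n := by
  have h1 : IsW n := by rw [IsW, ← h]; exact mat_iso g
  exact ⟨h1, mat_inj (by rw [mat_E h1, h])⟩

theorem isW_cI : IsW cI := isW_of (by decide +kernel)

theorem isW_cN : IsW cN := isW_of (by decide +kernel)

theorem E_cI : E cI = 1 := (eq_E (by rw [map_one, dec_cI])).2.symm

theorem E_cN : E cN = negW := (eq_E (by rw [mat_negW, dec_cN])).2.symm

theorem E_mul {a b c : ℕ} (ha : IsW a) (hb : IsW b) (h : mulEq a b c = true) :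
    IsW c ∧ E a * E b = E c :=
  eq_E (by rw [map_mul, mat_E ha, mat_E hb, mulEq_sound h])

theorem E_eq2 {a b c d : ℕ} (ha : IsW a) (hb : IsW b) (hc : IsW c) (hd : IsW d)
    (h : eq2 a b c d = true) : E a * E b = E c * E d :=
  mat_inj (by rw [map_mul, map_mul, mat_E ha, mat_E hb, mat_E hc, mat_E hd, eq2_sound h])

theorem E_ne {a b : ℕ} (ha : IsW a) (hb : IsW b) (h : same a b = false) : E a ≠ E b := fun e =>
  ne_of_same h (by rw [← mat_E ha, ← mat_E hb, e])

/-- codes of elements of `L0` -/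
def Gd (n : ℕ) : Prop := IsW n ∧ E n ∈ L0

open Classical in
/-- the element of `L0` with a given code -/
noncomputable def E0 (n : ℕ) : L0 := if h : E n ∈ L0 then ⟨E n, h⟩ else 1

theorem coe_E0 {n : ℕ} (h : Gd n) : (E0 n : W) = E n := by rw [E0, dif_pos h.2]

theorem mat_E0 {n : ℕ} (h : Gd n) : mat (E0 n) = dec n := by rw [coe_E0 h, mat_E h.1]

theorem gd_cI : Gd cI := ⟨isW_cI, by rw [E_cI]; exact one_mem _⟩

theorem gd_cN : Gd cN := ⟨isW_cN, by rw [E_cN]; exact negW_mem⟩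

theorem E0_cI : E0 cI = 1 := Subtype.ext (by rw [coe_E0 gd_cI, E_cI]; rfl)

theorem E0_cN : E0 cN = z0 := Subtype.ext (by rw [coe_E0 gd_cN, E_cN]; rfl)

theorem Gd.mul {a b c : ℕ} (ha : Gd a) (hb : Gd b) (h : mulEq a b c = true) :
    Gd c ∧ E0 a * E0 b = E0 c := by
  obtain ⟨h1, h2⟩ := E_mul ha.1 hb.1 h
  have hc : Gd c := ⟨h1, h2 ▸ mul_mem ha.2 hb.2⟩
  exact ⟨hc, Subtype.ext (by rw [Subgroup.coe_mul, coe_E0 ha, coe_E0 hb, coe_E0 hc, h2])⟩

theorem E0_eq2 {a b c d : ℕ} (ha : Gd a) (hb : Gd b) (hc : Gd c) (hd : Gd d)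
    (h : eq2 a b c d = true) : E0 a * E0 b = E0 c * E0 d :=
  Subtype.ext (by
    rw [Subgroup.coe_mul, Subgroup.coe_mul, coe_E0 ha, coe_E0 hb, coe_E0 hc, coe_E0 hd,
      E_eq2 ha.1 hb.1 hc.1 hd.1 h])

theorem E0_ne {a b : ℕ} (ha : Gd a) (hb : Gd b) (h : same a b = false) : E0 a ≠ E0 b := fun e =>
  ne_of_same h (by rw [← mat_E0 ha, ← mat_E0 hb, e])

theorem word_E0 {l : List ℕ} {a n : ℕ} (ha : Gd a) (hl : ∀ x ∈ l, Gd x)
    (h : ev l a (fun c => Nat.beq c n) = true) : Gd n ∧ E0 a * (l.map E0).prod = E0 n := by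
  induction l generalizing a with
  | nil =>
    obtain rfl := Nat.eq_of_beq_eq_true h
    exact ⟨ha, by simp⟩
  | cons x l ih =>
    rw [ev_cons, force_eq, Bool.and_eq_true] at h
    obtain ⟨h1, h2⟩ := ha.mul (hl x (by simp)) h.1
    obtain ⟨h3, h4⟩ := ih h1 (fun y hy => hl y (by simp [hy])) h.2
    exact ⟨h3, by rw [List.map_cons, List.prod_cons, ← mul_assoc, h2, h4]⟩

/-- `a * b = c * (b * a)` -/
noncomputable def cmOk (a b c : ℕ) : Bool := force (mulN b a) fun y => mulEq b a y && eq2 a b c y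

theorem comm_E0 {a b c : ℕ} (ha : Gd a) (hb : Gd b) (hc : Gd c) (h : cmOk a b c = true) :
    E0 a * E0 b * (E0 a)⁻¹ * (E0 b)⁻¹ = E0 c := by
  rw [cmOk, force_eq, Bool.and_eq_true] at h
  obtain ⟨h1, h2⟩ := hb.mul ha h.1
  rw [E0_eq2 ha hb hc h1 h.2, ← h2]; group

/-- a product of two squares -/
noncomputable def gdOk (n y z : ℕ) : Bool :=
  isW y && (isW z && ev [y, z, z] y fun c => Nat.beq c n)

theorem gd_of {n y z : ℕ} (h : gdOk n y z = true) : Gd n := by
  rw [gdOk, Bool.and_eq_true, Bool.and_eq_true] at h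
  obtain ⟨c, h1, h2⟩ := ev_sound h.2.2
  obtain rfl := Nat.eq_of_beq_eq_true h2
  have hy := isW_of h.1
  have hz := isW_of h.2.1
  obtain ⟨h3, h4⟩ := eq_E (g := E y * E y * (E z * E z)) (n := c) (by
    rw [← h1]; simp [mat_E hy, mat_E hz, mul_assoc])
  exact ⟨h3, h4 ▸ mul_mem (sq_mem _) (sq_mem _)⟩

/-- a table of elements of `L0` with certificates -/
noncomputable def gdAll (l : List (ℕ × ℕ × ℕ)) : Bool := l.all fun p => gdOk p.1 p.2.1 p.2.2

theorem gd_all {l : List (ℕ × ℕ × ℕ)} (h : gdAll l = true) : ∀ n ∈ l.map (·.1), Gd n := by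
  intro n hn
  obtain ⟨p, hp, rfl⟩ := List.mem_map.1 hn
  exact gd_of (List.all_eq_true.1 h p hp)

theorem z0_mem_commutator : z0 ∈ commutator L0 := by
  have hu : Gd 0x9b2559429093e1194250941f2942108420f84210751cd7c190849cd845d08420f842307c5ee7c5cf :=
    gd_of (y := 0x7d18b84170849cd845d07420f741b0945ef94231832957c27083e52842507c2307c2309421194250)
      (z := 0x845cd7c5af7c2317c20f8c9eb8bdf483e138460d8c60f93e3383e528425173e527422f8be138c62e)
      (by decide +kernel)
  have hv : Gd 0x951cfa39f29461094212755cd8b9d093a1184a1063e2f6420e7ba51746308ba51842528b6327ca2f :=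
    gd_of (y := 0x73eb2736749423193e52646306bdb094211942507c58e7cd6c945af949ce9bdf094630945cf9460f)
      (z := 0x8be73846328ca11942107422f73dd29421194250741cc73dd0849ae8c1ce8c9d0945ee8c1f08c22f)
      (by decide +kernel)
  rw [← E0_cN, ← comm_E0 hu hv gd_cN (by decide +kernel)]
  exact Subgroup.commutator_mem_commutator (Subgroup.mem_top _) (Subgroup.mem_top _)

theorem perfect : commutator L0 = ⊤ := by
  rw [eq_top_iff]
  intro a _
  have h : π0 a ∈ (commutator L0).map π0 := by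
    rw [commutator_def, Subgroup.map_commutator, ← MonoidHom.range_eq_map,
      MonoidHom.range_eq_top.2 π0_surj, ← commutator_def,
      commutator_Om_eq_top nd (by rw [fr]; decide)]
    trivial
  obtain ⟨b, hb, e⟩ := h
  have : π0 (a * b⁻¹) = 1 := by rw [map_mul, map_inv, e, mul_inv_cancel]
  rcases ker_π0.1 this with e | e
  · rwa [mul_inv_eq_one.1 e]
  · rw [mul_inv_eq_iff_eq_mul.1 e]; exact mul_mem z0_mem_commutator hb

theorem π0_eq_iff {a b : L0} : π0 a = π0 b ↔ a = b ∨ a = z0 * b := by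
  rw [Subtype.ext_iff, π0_coe, π0_coe, π_eq_iff, Subtype.ext_iff (a1 := a), Subtype.ext_iff (a1 := a)]
  rfl

theorem sq_of_π0 {a b : L0} (h : π0 a = π0 b) : a * a = b * b := by
  rcases π0_eq_iff.1 h with rfl | rfl
  · rfl
  · rw [mul_assoc, ← mul_assoc b, z0_comm b, mul_assoc, ← mul_assoc, z0_sq, one_mul]

/-- conjugation by an element of `W` -/
noncomputable def cj (w : W) : MulAut L0 := MulAut.conjNormal w

theorem coe_cj (w : W) (a : L0) : (cj w a : W) = w * a * w⁻¹ := rfl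

theorem cj_z0 (w : W) : cj w z0 = z0 :=
  Subtype.ext (by rw [coe_cj]; exact mul_inv_eq_of_eq_mul (negW_comm w))

theorem cj_mul (v w : W) (a : L0) : cj (v * w) a = cj v (cj w a) := by
  rw [cj, map_mul]; rfl

theorem cj_one (a : L0) : cj 1 a = a := by rw [cj, map_one]; rfl

theorem cj_coe (b a : L0) : cj b a = b * a * b⁻¹ := rfl

theorem cj_neg (w : W) (a : L0) : cj (negW * w) a = cj w a := Subtype.ext (by
  rw [coe_cj, coe_cj, _root_.mul_inv_rev, inv_eq_of_mul_eq_one_right negW_sq, ← mul_assoc,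
    negW_comm, ← mul_assoc, ← mul_assoc, ← mul_assoc, negW_sq, one_mul])

/-- the character of degree 8 -/
def tr (a : L0) : ℤ := (mat a).trace

theorem tr_cj (w : W) (a : L0) : tr (cj w a) = tr a := by
  rw [tr, coe_cj, map_mul, trace_mul_comm, ← map_mul, inv_mul_cancel_left]; rfl

theorem tr_one : tr 1 = 8 := by simp [tr]

theorem tr_neg (a : L0) : tr (z0 * a) = -tr a := by
  rw [tr, Subgroup.coe_mul, map_mul]
  simp [z0, mat_negW, tr]

theorem tr_E0 {n : ℕ} (h : Gd n) : tr (E0 n) = trN n := by rw [tr, mat_E0 h, trace_dec]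

end H52.E8
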