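import Cfsg.Agent.Lib.E8W.Tri
import Cfsg.Agent.Lib.Schur.Main
import Cfsg.Agent.Lib.Std.Base
import Cfsg.Agent.S2098
import Cfsg.Agent.S2607

/-!
Every perfect double cover of `Ω₈⁺(2)` is isomorphic to `L0`, and every automorphism of `L0` is
induced by `W`.
-/

set_option autoImplicit false
set_option linter.style.haveILetI false

namespace H52.E8

open QuadraticMap H12 Cfsg

noncomputable def pomEquiv : POmega F2 (quadFormPlus 4 F2) ≃* Ω :=
  (pcommCongr (plusIso F2 4)).trans (H10.quotCenterEquivOfBot center_Ω)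

theorem schur_Ω : HasSchurMultiplier Ω (Multiplicative (ZMod 2 × ZMod 2)) :=
  H60.hasSchur_of_mulEquiv pomEquiv (Cfsg.Agent.S2098.result (F := F2) (by decide))

theorem card_out_Ω : Nat.card (Out Ω) = 6 := by
  have := Cfsg.Agent.S2607.result (F := F2) (f := 1) (m := 4) le_rfl (by decide) le_rfl
  rw [if_pos rfl] at this
  obtain ⟨e⟩ := this
  rw [Nat.card_congr ((H30.outCongr pomEquiv).symm.trans e).toEquiv, Nat.card_prod, Nat.card_perm]
  simp
  rfl

theorem perfect_Ω : commutator Ω = ⊤ := commutator_Om_eq_top nd (by rw [fr]; decide)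

theorem ker_eq_of_card {Γ : Type*} [Group Γ] [Finite Γ] {K N : Subgroup Γ} (hK : Nat.card K = 2)
    (hN : Nat.card N = 2) {n : Γ} (h1 : n ≠ 1) (h2 : n ∈ K) (h3 : n ∈ N) : K = N := by
  have key : ∀ {K : Subgroup Γ}, Nat.card K = 2 → n ∈ K → ∀ x, x ∈ K ↔ x = 1 ∨ x = n := by
    intro K hK h2 x
    refine ⟨fun hx => ?_, ?_⟩
    · obtain ⟨y, -, hy⟩ := (Nat.card_eq_two_iff' (1 : K)).1 hK
      by_cases e : x = 1
      · exact Or.inl e
      · exact Or.inr (congrArg Subtype.val ((hy ⟨x, hx⟩ fun h => e (congrArg Subtype.val h)).trans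
          (hy ⟨n, h2⟩ fun h => h1 (congrArg Subtype.val h)).symm))
    · rintro (rfl | rfl); exacts [one_mem _, h2]
  ext x
  rw [key hK h2, key hN h3]

theorem exists_cover : ∃ (Γ : Type) (_ : Group Γ) (_ : Finite Γ) (σ : Γ →* Ω),
    Function.Surjective σ ∧ Nat.card σ.ker = 4 ∧
    ∀ (X : Type) [Group X] [Finite X] (ξ : X →* Ω), commutator X = ⊤ → Function.Surjective ξ →
      ξ.ker ≤ Subgroup.center X → Nat.card ξ.ker = 2 →
      ∃ η : Γ →* X, Function.Surjective η ∧ Nat.card η.ker = 2 ∧ ∀ g, ξ (η g) = σ g := by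
  obtain ⟨Γ, _, _, σ, hσ, ⟨e⟩⟩ := schur_Ω.1
  have hc : Nat.card σ.ker = 4 := by rw [Nat.card_congr e.toEquiv]; simp
  refine ⟨Γ, inferInstance, inferInstance, σ, hσ.1, hc, fun X _ _ ξ hp hs hk h2 => ?_⟩
  obtain ⟨η, h1, h3⟩ := H78.Schur.exists_hom_commutator schur_Ω hσ (by rw [hc]; simp) ξ hs hk
  have hΓ : commutator Γ = ⊤ := by
    have h4 : (commutator Γ).map σ = ⊤ := by
      rw [H78.Schur.map_commutator_of_surjective σ hσ.1, perfect_Ω]
    rw [eq_top_iff]
    intro g _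
    obtain ⟨k, hk, e⟩ : σ g ∈ (commutator Γ).map σ := by rw [h4]; trivial
    have : k⁻¹ * g ∈ σ.ker := by rw [MonoidHom.mem_ker, map_mul, map_inv, e, inv_mul_cancel]
    simpa using mul_mem hk (hσ.2.2 this)
  let η' : Γ →* X := η.comp ((MonoidHom.id Γ).codRestrict _ fun g => by rw [hΓ]; trivial)
  have hs' : Function.Surjective η' := fun x => by
    obtain ⟨g, hg⟩ : x ∈ η.range := by rw [h3, hp]; trivial
    exact ⟨g, hg⟩
  refine ⟨η', hs', ?_, fun g => DFunLike.congr_fun h1 ⟨g, _⟩⟩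
  have c1 := Subgroup.card_mul_index σ.ker
  have c2 := Subgroup.card_mul_index η'.ker
  have c3 := Subgroup.card_mul_index ξ.ker
  rw [Subgroup.index_ker, MonoidHom.range_eq_top.2 hσ.1, Subgroup.card_top, hc] at c1
  rw [Subgroup.index_ker, MonoidHom.range_eq_top.2 hs', Subgroup.card_top, ← c3, ← c1, h2,
    Subgroup.index_ker, MonoidHom.range_eq_top.2 hs, Subgroup.card_top] at c2
  have : 0 < Nat.card Ω := Nat.card_pos
  nlinarith

theorem card_ker_π0 : Nat.card π0.ker = 2 := by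
  rw [(Nat.card_eq_two_iff' (1 : π0.ker))]
  refine ⟨⟨z0, π0_z0⟩, fun h => z0_ne (congrArg Subtype.val h), fun y hy => ?_⟩
  rcases ker_π0.1 y.2 with e | e
  · exact absurd (Subtype.ext e) hy
  · exact Subtype.ext e

/-- uniqueness of the double cover -/
theorem equiv_L0 {X : Type} [Group X] [Finite X] (ξ : X →* Ω) (hp : commutator X = ⊤)
    (hs : Function.Surjective ξ) (hk : ξ.ker ≤ Subgroup.center X) (h2 : Nat.card ξ.ker = 2) :
    Nonempty (X ≃* L0) := by
  obtain ⟨Γ, _, _, σ, hσ, h4, h⟩ := exists_cover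
  obtain ⟨T, a0, a1, a2, t0, t1, t2, s0, s1, s2⟩ := exists_tri'
  obtain ⟨η, e1, e2, e3⟩ := h X ξ hp hs hk h2
  have cov : ∀ S : MulAut Ω, ∃ η : Γ →* L0, Function.Surjective η ∧ Nat.card η.ker = 2 ∧
      ∀ g a, S (π0 a) = σ g → η (g * g) = a * a := fun S => by
    have hker : (S.toMonoidHom.comp π0).ker = π0.ker := by
      ext a; simp [MonoidHom.mem_ker]
    obtain ⟨η, h1, h2, h3⟩ := h L0 (S.toMonoidHom.comp π0) perfect (S.surjective.comp π0_surj)
      (fun a ha => (cen a).2 (ker_π0.1 (hker.le ha))) (by rw [hker, card_ker_π0])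
    exact ⟨η, h1, h2, fun g a e => by
      rw [map_mul]; exact sq_of_π0 (S.injective ((h3 g).trans e.symm))⟩
  obtain ⟨η0, p0, k0, q0⟩ := cov 1
  obtain ⟨η1, p1, k1, q1⟩ := cov T
  obtain ⟨η2, p2, k2, q2⟩ := cov T⁻¹
  obtain ⟨g0, r0⟩ := hσ (π0 a0)
  obtain ⟨g1, r1⟩ := hσ (π0 a1)
  obtain ⟨g2, r2⟩ := hσ (π0 a2)
  have u00 := (q0 g0 a0 r0.symm).trans s0
  have u01 := (q0 g1 a1 r1.symm).trans s1
  have u02 := (q0 g2 a2 r2.symm).trans s2
  have u11 := (q1 g1 a0 (t0.trans r1.symm)).trans s0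
  have u12 := (q1 g2 a1 (t1.trans r2.symm)).trans s1
  have u10 := (q1 g0 a2 (t2.trans r0.symm)).trans s2
  have u22 := (q2 g2 a0 (by rw [r2, ← t2]; exact T.symm_apply_apply _)).trans s0
  have m0 : g0 * g0 ∈ σ.ker := by rw [MonoidHom.mem_ker, map_mul, r0, ← map_mul, s0, map_one]
  have m1 : g1 * g1 ∈ σ.ker := by rw [MonoidHom.mem_ker, map_mul, r1, ← map_mul, s1, π0_z0]
  have m2 : g2 * g2 ∈ σ.ker := by rw [MonoidHom.mem_ker, map_mul, r2, ← map_mul, s2, π0_z0]
  have ne : ∀ {θ : Γ →* L0} {x y : Γ}, θ x = 1 → θ y = z0 → x ≠ y := fun h1 h2 e =>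
    z0_ne (by rw [← h2, ← e, h1])
  have n0 : 1 ≠ g0 * g0 := ne (map_one _) u10
  have n1 : 1 ≠ g1 * g1 := ne (map_one _) u01
  have n2 : 1 ≠ g2 * g2 := ne (map_one _) u02
  have fin : ∀ {θ : Γ →* L0}, Function.Surjective θ → θ.ker = η.ker → Nonempty (X ≃* L0) :=
    fun hθ e => ⟨(QuotientGroup.quotientKerEquivOfSurjective η e1).symm.trans
      ((QuotientGroup.quotientMulEquivOfEq e.symm).trans
        (QuotientGroup.quotientKerEquivOfSurjective _ hθ))⟩
  obtain ⟨⟨n, hn⟩, hn1, -⟩ := (Nat.card_eq_two_iff' (1 : η.ker)).1 e2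
  have hn1' : n ≠ 1 := fun e => hn1 (Subtype.ext e)
  have hnσ : n ∈ σ.ker := by rw [MonoidHom.mem_ker, ← e3, MonoidHom.mem_ker.1 hn, map_one]
  classical
  by_cases c0 : n = g0 * g0
  · exact fin p0 (ker_eq_of_card k0 e2 hn1' (c0 ▸ u00) hn)
  by_cases c1 : n = g1 * g1
  · exact fin p1 (ker_eq_of_card k1 e2 hn1' (c1 ▸ u11) hn)
  by_cases c2 : n = g2 * g2
  · exact fin p2 (ker_eq_of_card k2 e2 hn1' (c2 ▸ u22) hn)
  exfalso
  have h5 : ({n, 1, g0 * g0, g1 * g1, g2 * g2} : Set Γ).ncard = 5 := by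
    rw [Set.ncard_insert_of_notMem (by simp [hn1', c0, c1, c2]),
      Set.ncard_insert_of_notMem (by simp [n0, n1, n2]),
      Set.ncard_insert_of_notMem (by simp [ne u00 u01, ne u00 u02]), Set.ncard_pair (ne u11 u12)]
  have h6 : ({n, 1, g0 * g0, g1 * g1, g2 * g2} : Set Γ) ⊆ σ.ker := by
    rintro _ (rfl | rfl | rfl | rfl | rfl)
    exacts [hnσ, one_mem _, m0, m1, m2]
  have := Set.ncard_le_ncard h6
  rw [h5, ← Nat.card_coe_set_eq] at this
  exact absurd (this.trans_eq h4) (by decide)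

/-- the automorphisms of `Ω` preserving the images of the involutions of `L0` -/
def Φ : Subgroup (MulAut Ω) where
  carrier := {β | ∀ a b : L0, β (π0 a) = π0 b → (a * a = 1 ↔ b * b = 1)}
  mul_mem' := fun {β γ} hβ hγ a b h => by
    obtain ⟨c, hc⟩ := π0_surj (γ (π0 a))
    exact (hγ a c hc.symm).trans (hβ c b (by rw [hc]; exact h))
  one_mem' := fun a b h => by rw [sq_of_π0 h]
  inv_mem' := fun {β} hβ a b h => (hβ b a (by rw [← h]; exact β.apply_symm_apply _)).symm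

theorem mem_Φ {β : MulAut Ω} {α : MulAut L0} (h : ∀ a, β (π0 a) = π0 (α a)) : β ∈ Φ := fun a b e => by
  rw [← sq_of_π0 ((h a).symm.trans e), ← map_mul, EmbeddingLike.map_eq_one_iff]

theorem Φ_eq : Φ = (MulAut.conjNormal : O Q2 →* MulAut Ω).range := by
  have hle : (MulAut.conjNormal : O Q2 →* MulAut Ω).range ≤ Φ := by
    rintro _ ⟨g, rfl⟩
    obtain ⟨w, rfl⟩ := π_surj g
    exact mem_Φ (α := cj w) fun a => Subtype.ext (by
      rw [π0_coe, coe_cj, map_mul, map_mul, map_inv]; rfl)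
  have hne : Φ ≠ ⊤ := fun h => by
    obtain ⟨T, a0, a1, a2, t0, -, -, s0, s1, -⟩ := exists_tri'
    have : T ∈ Φ := by rw [h]; trivial
    exact z0_ne (s1.symm.trans ((this a0 a1 t0).1 s0))
  have hinj : Function.Injective (MulAut.conjNormal : O Q2 →* MulAut Ω) := by
    rw [injective_iff_map_eq_one]
    intro g hg
    have := hyp0.eq_one_or_neg_of_comm nd (by rw [fr]; decide) (g := g) fun u v =>
      mul_inv_eq_iff_eq_mul.1 (congrArg Subtype.val
        (DFunLike.congr_fun hg (⟨_, eich_mem_Om nd gd u v⟩ : Ω)))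
    rwa [negO_eq_one_of_two_eq_zero rfl, or_self] at this
  have hinj2 : Function.Injective (MulAut.conj : Ω →* MulAut Ω) := by
    rw [injective_iff_map_eq_one]
    intro g hg
    rw [← Subgroup.mem_bot, ← center_Ω, Subgroup.mem_center_iff]
    exact fun x => (mul_inv_eq_iff_eq_mul.1 (DFunLike.congr_fun hg x)).symm
  have c1 := Subgroup.card_mul_index (Inn Ω)
  have c2 := Subgroup.card_mul_index (MulAut.conjNormal : O Q2 →* MulAut Ω).range
  have c3 := Subgroup.card_mul_index (Om Q2)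
  rw [show (Inn Ω).index = 6 from card_out_Ω,
    ← Nat.card_congr (MonoidHom.ofInjective hinj2).toEquiv] at c1
  rw [index_Om_even nd gd rfl (by rw [fr]; decide)] at c3
  rw [← Nat.card_congr (MonoidHom.ofInjective hinj).toEquiv, ← c1, ← c3] at c2
  have hpos : 0 < Nat.card Ω := Nat.card_pos
  have c4 : (MulAut.conjNormal : O Q2 →* MulAut Ω).range.index = 3 := by nlinarith
  have c5 := Subgroup.relIndex_mul_index hle
  rw [c4] at c5
  rcases (Nat.dvd_prime Nat.prime_three).1 (Dvd.intro_left _ c5) with e | e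
  · exact absurd (Subgroup.index_eq_one.1 e) hne
  · rw [e] at c5
    exact le_antisymm (Subgroup.relIndex_eq_one.1 (by omega)) hle

/-- every automorphism of `L0` is induced by `W` -/
theorem aut_L0 (α : MulAut L0) : ∃ w : W, ∀ a, α a = cj w a := by
  let β : Ω →* Ω := π0.liftOfSurjective π0_surj ⟨π0.comp α.toMonoidHom, fun a ha => by
    rcases ker_π0.1 ha with rfl | rfl
    · exact one_mem _
    · exact ker_π0.2 ((cen _).1 ((H78.Schur.map_center_equiv α).2 ((cen _).2 (Or.inr rfl))))⟩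
  have hβ : ∀ a, β (π0 a) = π0 (α a) := fun a => MonoidHom.liftOfRightInverse_comp_apply _ _ _ _ a
  have hs : Function.Surjective β := fun y => by
    obtain ⟨a, rfl⟩ := π0_surj y
    exact ⟨π0 (α.symm a), by rw [hβ, α.apply_symm_apply]⟩
  have h := mem_Φ (β := MulEquiv.ofBijective β ⟨Finite.injective_iff_surjective.2 hs, hs⟩) hβ
  rw [Φ_eq] at h
  obtain ⟨g, hg⟩ := h
  obtain ⟨w, rfl⟩ := π_surj g
  refine ⟨w, H10.Std.eq_of_central perfect α.toMonoidHom (cj w).toMonoidHom fun a => ?_⟩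
  rw [cen, ← ker_π0, map_mul, map_inv, inv_mul_eq_one]
  refine Eq.trans ?_ ((DFunLike.congr_fun hg (π0 a)).trans (hβ a))
  exact Subtype.ext (by
    rw [π0_coe]
    show π (w * a * w⁻¹) = π w * π a * (π w)⁻¹
    rw [map_mul, map_mul, map_inv])

end H52.E8
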