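import Cfsg.Agent.Lib.E8W.Code
import Cfsg.Agent.Lib.Orth12.Forms

/-!
The isometry group `W` of the lattice of type `E₈`, its reduction modulo 2 onto `O₈⁺(2)` and the
subgroup `L0` of index 2.
-/

set_option autoImplicit false
set_option linter.style.haveILetI false

namespace H52.E8

open Matrix QuadraticMap H12

abbrev F2 : Type := ZMod 2

/-- the Gram matrix -/
def A : M := dec cA

def β (u v : ι → ℤ) : ℤ := u ⬝ᵥ A *ᵥ v

def q (v : ι → ℤ) : ℤ := v ⬝ᵥ dec cU *ᵥ v

theorem A_eq : A = dec cU + (dec cU)ᵀ := by decide +kernel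

theorem A_symm : Aᵀ = A := by decide +kernel

theorem dot_tr (N : M) (u v : ι → ℤ) : u ⬝ᵥ Nᵀ *ᵥ v = v ⬝ᵥ N *ᵥ u := by
  rw [dotProduct_mulVec, vecMul_transpose, dotProduct_comm]

theorem β_comm (u v : ι → ℤ) : β u v = β v u := by rw [β, β, ← dot_tr, A_symm]

theorem β_self (v : ι → ℤ) : β v v = 2 * q v := by
  rw [β, A_eq, add_mulVec, dotProduct_add, dot_tr, q]; ring

theorem β_add_left (u v w : ι → ℤ) : β (u + v) w = β u w + β v w := add_dotProduct _ _ _

theorem β_sub_left (u v w : ι → ℤ) : β (u - v) w = β u w - β v w := sub_dotProduct _ _ _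

theorem β_smul_left (c : ℤ) (u w : ι → ℤ) : β (c • u) w = c * β u w := smul_dotProduct _ _ _

theorem β_add_right (u v w : ι → ℤ) : β w (u + v) = β w u + β w v := by
  rw [β_comm, β_add_left, β_comm u, β_comm v]

theorem β_sub_right (u v w : ι → ℤ) : β w (u - v) = β w u - β w v := by
  rw [β_comm, β_sub_left, β_comm u, β_comm v]

theorem β_smul_right (c : ℤ) (u w : ι → ℤ) : β w (c • u) = c * β w u := by
  rw [β_comm, β_smul_left, β_comm u]

theorem q_add (u v : ι → ℤ) : q (u + v) = q u + q v + β u v := by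
  have := β_self (u + v)
  rw [β_add_left, β_add_right, β_add_right, β_self, β_self, β_comm v u] at this
  linarith

theorem BB : (dec cB)ᵀ * dec cB = (4 : ℤ) • A := by decide +kernel

theorem FB : dec cF * dec cB = (4 : ℤ) • (1 : M) := by rw [← dec_c4]; exact mulEq_sound (by decide +kernel)

theorem BF : dec cB * dec cF = (4 : ℤ) • (1 : M) := by rw [← dec_c4]; exact mulEq_sound (by decide +kernel)

theorem AiA : dec cAi * A = 1 := by rw [← dec_cI]; exact mulEq_sound (by decide +kernel)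

theorem eight_q (v : ι → ℤ) : 8 * q v = ∑ i, (dec cB *ᵥ v) i ^ 2 := by
  have h : (dec cB *ᵥ v) ⬝ᵥ (dec cB *ᵥ v) = 4 * β v v := by
    rw [← dot_tr, mulVec_mulVec, BB, smul_mulVec, dotProduct_smul, β]; rfl
  rw [β_self] at h
  simp only [pow_two]
  exact (h.trans (by ring)).symm

theorem B_inj {u v : ι → ℤ} (h : dec cB *ᵥ u = dec cB *ᵥ v) : u = v := by
  have := congrArg (dec cF *ᵥ ·) h
  simp only [mulVec_mulVec, FB, smul_mulVec, one_mulVec] at this
  exact smul_right_injective _ (by norm_num : (4 : ℤ) ≠ 0) this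

theorem q_nonneg (v : ι → ℤ) : 0 ≤ q v := by
  have := eight_q v
  have h : 0 ≤ ∑ i, (dec cB *ᵥ v) i ^ 2 := Finset.sum_nonneg fun i _ => sq_nonneg _
  linarith

theorem eq_zero_of_q {v : ι → ℤ} (h : q v = 0) : v = 0 := by
  have := eight_q v
  rw [h, mul_zero, eq_comm, Finset.sum_eq_zero_iff_of_nonneg fun i _ => sq_nonneg _] at this
  refine B_inj ?_
  rw [mulVec_zero]
  funext i
  exact pow_eq_zero_iff (two_ne_zero) |>.1 (this i (Finset.mem_univ i))

/-- the isometry group of the lattice -/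
def W : Subgroup (GL ι ℤ) where
  carrier := {g | (g : M)ᵀ * A * g = A}
  mul_mem' := fun {a b} ha hb => by
    show ((a * b : GL ι ℤ) : M)ᵀ * A * (a * b : GL ι ℤ) = A
    rw [Units.val_mul, transpose_mul]
    calc _ = (b : M)ᵀ * ((a : M)ᵀ * A * a) * b := by simp only [mul_assoc]
      _ = A := by rw [ha, hb]
  one_mem' := by show ((1 : GL ι ℤ) : M)ᵀ * A * (1 : GL ι ℤ) = A; simp
  inv_mem' := fun {a} ha => by
    show ((a⁻¹ : GL ι ℤ) : M)ᵀ * A * (a⁻¹ : GL ι ℤ) = A
    have ha' : (a : M)ᵀ * A * a = A := ha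
    calc _ = ((a⁻¹ : GL ι ℤ) : M)ᵀ * ((a : M)ᵀ * A * a) * (a⁻¹ : GL ι ℤ) := by rw [ha']
      _ = ((a * a⁻¹ : GL ι ℤ) : M)ᵀ * A * (a * a⁻¹ : GL ι ℤ) := by
        rw [Units.val_mul, transpose_mul]; simp only [mul_assoc]
      _ = A := by simp

/-- the matrix of an element -/
def mat : W →* M := (Units.coeHom M).comp W.subtype

theorem mat_inj : Function.Injective mat := fun _ _ h => Subtype.ext (Units.ext h)

theorem mat_iso (g : W) : (mat g)ᵀ * A * mat g = A := g.2

def mkW (m : M) (h : mᵀ * A * m = A) : W :=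
  ⟨⟨m, dec cAi * mᵀ * A, mul_eq_one_comm.1 (by rw [mul_assoc, mul_assoc, ← mul_assoc mᵀ, h, AiA]),
    by rw [mul_assoc, mul_assoc, ← mul_assoc mᵀ, h, AiA]⟩, h⟩

theorem mat_mkW (m : M) (h : mᵀ * A * m = A) : mat (mkW m h) = m := rfl

theorem β_mul (m : M) (u v : ι → ℤ) : β (m *ᵥ u) (m *ᵥ v) = u ⬝ᵥ (mᵀ * A * m) *ᵥ v := by
  rw [β, ← mulVec_mulVec, ← mulVec_mulVec, dot_tr, dotProduct_comm]

theorem β_map (g : W) (u v : ι → ℤ) : β (mat g *ᵥ u) (mat g *ᵥ v) = β u v := by
  rw [β_mul, mat_iso, β]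

theorem q_map (g : W) (v : ι → ℤ) : q (mat g *ᵥ v) = q v := by
  have := β_map g v v
  rw [β_self, β_self] at this
  linarith

theorem iso_of_β {m : M} (h : ∀ u v, β (m *ᵥ u) (m *ᵥ v) = β u v) : mᵀ * A * m = A := by
  ext i j
  have := h (Pi.single i 1) (Pi.single j 1)
  rw [β_mul, β] at this
  simpa using this

/-- `-1` -/
def negW : W := mkW (-1) (by simp)

theorem mat_negW : mat negW = -1 := rfl

theorem negW_comm (g : W) : g * negW = negW * g := mat_inj (by simp [mat_negW])

theorem negW_sq : negW * negW = 1 := mat_inj (by simp [mat_negW])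

theorem negW_ne : negW ≠ 1 := fun h => by
  have := congrFun (congrFun (congrArg mat h) (.inl 0)) (.inl 0)
  simp [mat_negW] at this

/-! ### Reduction modulo 2 -/

/-- the reduction of a vector -/
def red (v : ι → ℤ) : ι → F2 := fun i => (v i : F2)

theorem red_surj (x : ι → F2) : ∃ v, red v = x :=
  ⟨fun i => ((x i).val : ℤ), funext fun i => by simp [red]⟩

theorem red_add (u v : ι → ℤ) : red (u + v) = red u + red v := funext fun i => by simp [red]

theorem red_sub (u v : ι → ℤ) : red (u - v) = red u - red v := funext fun i => by simp [red]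

theorem red_smul (c : ℤ) (v : ι → ℤ) : red (c • v) = (c : F2) • red v := funext fun i => by
  simp [red]

theorem red_mulVec (m : M) (v : ι → ℤ) :
    red (m *ᵥ v) = m.map (Int.castRingHom F2) *ᵥ red v := funext fun i =>
  RingHom.map_mulVec (Int.castRingHom F2) m v i

abbrev Q2 : QuadraticForm F2 (ι → F2) := QPlus F2 4

theorem U_red : (dec cU).map (Int.castRingHom F2) = Matrix.fromBlocks 0 1 0 0 := by decide +kernel

theorem Q2_red (v : ι → ℤ) : Q2 (red v) = (q v : F2) := by
  have h : ((q v : ℤ) : F2) = red v ⬝ᵥ red (dec cU *ᵥ v) :=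
    RingHom.map_dotProduct (Int.castRingHom F2) v _
  rw [h, red_mulVec, U_red, QPlus_apply, Cfsg.quadFormPlus]
  simp [fromBlocks_mulVec, dotProduct]

theorem polar_red (u v : ι → ℤ) : polar Q2 (red u) (red v) = (β u v : F2) := by
  rw [polar, ← red_add, Q2_red, Q2_red, Q2_red, q_add]; push_cast; ring

theorem nd : Nondeg Q2 := nondeg_QPlus 4

theorem fr : Module.finrank F2 (ι → F2) = 8 := finrank_plus 4

theorem gd : Good Q2 := good_of_finrank_ne nd (by rw [fr]; decide)

theorem hyp0 : IsHyp Q2 (Pi.single (.inl 0) 1) (Pi.single (.inr 0) 1) := by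
  refine ⟨?_, ?_, ?_⟩
  · rw [QPlus_apply, Cfsg.quadFormPlus]; simp [Pi.single_apply]
  · rw [QPlus_apply, Cfsg.quadFormPlus]; simp [Pi.single_apply]
  · rw [polar_QPlus]; simp [Pi.single_apply]

/-- the reduction of an isometry -/
noncomputable def π : W →* O Q2 :=
  (plusIso F2 4).toMonoidHom.comp
    (((GeneralLinearGroup.map (Int.castRingHom F2)).comp W.subtype).codRestrict _ fun g => by
      rw [mem_isometryGroup]
      intro x
      obtain ⟨v, rfl⟩ := red_surj x
      rw [← QPlus_apply, ← QPlus_apply]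
      exact (congrArg Q2 (red_mulVec (mat g) v).symm).trans (by rw [Q2_red, Q2_red, q_map]))

theorem π_apply (g : W) (x : ι → F2) : (π g).1 x = (mat g).map (Int.castRingHom F2) *ᵥ x :=
  isoEquiv_apply (QPlus F2 4) (QPlus_apply 4) _ x

theorem π_red (g : W) (v : ι → ℤ) : (π g).1 (red v) = red (mat g *ᵥ v) := by
  rw [π_apply, red_mulVec]

theorem π_negW : π negW = 1 := O.ext fun x => by
  obtain ⟨v, rfl⟩ := red_surj x
  rw [π_red, mat_negW, neg_mulVec, one_mulVec, O.one_apply]
  funext i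
  simp [red]

/-- the reflection in a root -/
def Rf (r : ι → ℤ) (h : q r = 1) : W := mkW (1 - vecMulVec r (r ᵥ* A)) (iso_of_β fun u v => by
  have e : ∀ v, (1 - vecMulVec r (r ᵥ* A)) *ᵥ v = v - β r v • r := fun v => by
    rw [sub_mulVec, one_mulVec, vecMulVec_mulVec, ← dotProduct_mulVec]; simp [β]
  rw [e, e, β_sub_left, β_sub_right, β_sub_right, β_smul_left, β_smul_left, β_smul_right,
    β_smul_right, β_self r, h, β_comm u r]
  ring)

theorem Rf_apply (r : ι → ℤ) (h : q r = 1) (v : ι → ℤ) : mat (Rf r h) *ᵥ v = v - β r v • r := by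
  rw [Rf, mat_mkW, sub_mulVec, one_mulVec, vecMulVec_mulVec, ← dotProduct_mulVec]; simp [β]

theorem Q2_root {r : ι → ℤ} (h : q r = 1) : Q2 (red r) = 1 := by rw [Q2_red, h]; rfl

theorem π_Rf (r : ι → ℤ) (h : q r = 1) : π (Rf r h) = refl Q2 (red r) := O.ext fun x => by
  obtain ⟨v, rfl⟩ := red_surj x
  rw [π_red, Rf_apply, refl_apply, Q2_root h, polar_red, red_sub, red_smul, β_comm]
  simp

def rootOf (a b c d e f g h : F2) : ι → ℤ :=
  vec (rootT >>> (40 * (a.val + 2 * b.val + 4 * c.val + 8 * d.val + 16 * e.val + 32 * f.val +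
    64 * g.val + 128 * h.val)))

theorem rootOf_ok : ∀ a b c d e f g h : F2, a * e + b * f + c * g + d * h ≠ 0 →
    q (rootOf a b c d e f g h) = 1 ∧
      red (rootOf a b c d e f g h) = Sum.elim ![a, b, c, d] ![e, f, g, h] := by
  decide +kernel

theorem elim_eta {α : Type} (x : ι → α) :
    Sum.elim ![x (.inl 0), x (.inl 1), x (.inl 2), x (.inl 3)]
      ![x (.inr 0), x (.inr 1), x (.inr 2), x (.inr 3)] = x := by
  funext i
  rcases i with i | i <;> fin_cases i <;> rfl

theorem exists_root {x : ι → F2} (hx : Q2 x ≠ 0) : ∃ r, q r = 1 ∧ red r = x := by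
  rw [QPlus_apply, Cfsg.quadFormPlus, Fin.sum_univ_four] at hx
  obtain ⟨h1, h2⟩ := rootOf_ok _ _ _ _ _ _ _ _ hx
  exact ⟨_, h1, h2.trans (elim_eta x)⟩

theorem π_surj : Function.Surjective π := by
  rw [← MonoidHom.range_eq_top]
  refine eq_top_of_refl nd gd _ fun x hx => ?_
  obtain ⟨r, h, rfl⟩ := exists_root hx
  exact ⟨Rf r h, π_Rf r h⟩

theorem exists_half {u v : ι → ℤ} (h : red u = red v) : ∃ w, u = v + (2 : ℤ) • w := by
  have : ∀ i, ∃ c, u i = v i + 2 * c := fun i => by
    obtain ⟨c, hc⟩ := (ZMod.intCast_eq_intCast_iff_dvd_sub (v i) (u i) 2).1 (congrFun h i).symm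
    exact ⟨c, by push_cast at hc; linarith⟩
  choose w hw using this
  exact ⟨w, funext fun i => by simp [hw i]⟩

theorem q_smul (c : ℤ) (v : ι → ℤ) : q (c • v) = c ^ 2 * q v := by
  have := β_self (c • v)
  rw [β_smul_left, β_smul_right, β_self] at this
  linarith

theorem root_pm {g : W} (h : π g = 1) {r : ι → ℤ} (hr : q r = 1) :
    mat g *ᵥ r = r ∨ mat g *ᵥ r = -r := by
  have h1 := π_red g r
  rw [h, O.one_apply] at h1
  obtain ⟨w, hw⟩ := exists_half h1.symm
  have h2 := q_map g r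
  rw [hw, q_add, q_smul, β_smul_right] at h2
  have h3 := q_add r w
  have h4 := q_nonneg w
  have h5 := q_nonneg (r + w)
  rcases (by omega : q w = 0 ∨ q (r + w) = 0) with h6 | h6
  · left; rw [hw, eq_zero_of_q h6]; simp
  · right
    rw [hw, eq_neg_of_add_eq_zero_right (eq_zero_of_q h6)]
    funext i; simp; ring

def sr (i : ι) : ι → ℤ := fun k => dec cS k i

theorem q_sr : ∀ i, q (sr i) = 1 := by decide +kernel

theorem ker_aux {g : W} (h : π g = 1) {c : ℤ}
    (h0 : mat g *ᵥ sr (.inl 0) = c • sr (.inl 0)) : mat g = c • (1 : M) := by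
  have step : ∀ i j, β (sr i) (sr j) = -1 → mat g *ᵥ sr i = c • sr i → mat g *ᵥ sr j = c • sr j := by
    intro i j hij hi
    have := β_map g (sr i) (sr j)
    rw [hi, β_smul_left] at this
    rcases root_pm h (q_sr j) with e | e
    · rw [e, hij] at this
      rw [e, show c = 1 by omega, one_smul]
    · rw [e, ← neg_one_smul ℤ, β_smul_right, hij] at this
      rw [e, show c = -1 by omega, neg_one_smul]
  have h1 := step _ (.inl 1) (by decide +kernel) h0
  have h2 := step _ (.inl 2) (by decide +kernel) h1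
  have h3 := step _ (.inl 3) (by decide +kernel) h2
  have h4 := step _ (.inr 0) (by decide +kernel) h2
  have h5 := step _ (.inr 1) (by decide +kernel) h4
  have h6 := step _ (.inr 2) (by decide +kernel) h5
  have h7 := step _ (.inr 3) (by decide +kernel) h6
  have ha : ∀ i, mat g *ᵥ sr i = c • sr i := fun i => by
    rcases i with i | i <;> fin_cases i <;> assumption
  have hS : mat g * dec cS = c • dec cS := by
    ext i j
    exact congrFun (ha j) i
  have hi : dec cS * dec cSi = 1 := by rw [← dec_cI]; exact mulEq_sound (by decide +kernel)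
  rw [← mul_one (mat g), ← hi, ← mul_assoc, hS, smul_mul_assoc]

theorem ker_π {g : W} (h : π g = 1) : g = 1 ∨ g = negW := by
  rcases root_pm h (q_sr (.inl 0)) with e | e
  · exact Or.inl (mat_inj (by rw [ker_aux h (c := 1) (by rw [e, one_smul]), one_smul, map_one]))
  · exact Or.inr (mat_inj (by
      rw [ker_aux h (c := -1) (by rw [e, neg_one_smul]), mat_negW, neg_one_smul]))

theorem π_eq_iff {g h : W} : π g = π h ↔ g = h ∨ g = negW * h := by
  constructor
  · intro e
    have : π (g * h⁻¹) = 1 := by rw [map_mul, map_inv, e, mul_inv_cancel]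
    rcases ker_π this with e | e
    · exact Or.inl (mul_inv_eq_one.1 e)
    · exact Or.inr (mul_inv_eq_iff_eq_mul.1 e)
  · rintro (rfl | rfl)
    · rfl
    · rw [map_mul, π_negW, one_mul]

instance : Finite (O Q2) := Finite.of_injective (fun g : O Q2 => (g.1 : (ι → F2) → ι → F2))
  fun _ _ h => O.ext (congrFun h)

instance : Finite W := by
  refine π.finite_iff_finite_ker_range.2 ⟨?_, inferInstance⟩
  exact Set.Finite.subset (Set.toFinite {1, negW}) fun x hx => ker_π hx

/-! ### The subgroup of index 2 -/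

/-- the parity -/
noncomputable def par : W →* ℤˣ := (dk nd gd).comp π

theorem par_Rf (r : ι → ℤ) (h : q r = 1) : par (Rf r h) = -1 := by
  rw [par, MonoidHom.comp_apply, π_Rf, dk_refl nd gd (by rw [Q2_root h]; exact one_ne_zero)]

/-- the double cover of `Ω₈⁺(2)` -/
noncomputable def L0 : Subgroup W := par.ker

instance : L0.Normal := inferInstanceAs par.ker.Normal

theorem mem_L0 {g : W} : g ∈ L0 ↔ par g = 1 := Iff.rfl

theorem mem_L0' {g : W} : g ∈ L0 ↔ π g ∈ Om Q2 := by
  rw [Om_eq_ker_dk nd gd rfl]; rfl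

theorem negW_mem : negW ∈ L0 := by rw [mem_L0', π_negW]; exact one_mem _

theorem sq_mem (g : W) : g * g ∈ L0 := by rw [mem_L0, map_mul, Int.units_mul_self]

theorem comm_mem (g h : W) : g * h * g⁻¹ * h⁻¹ ∈ L0 := by
  rw [mem_L0, map_mul, map_mul, map_mul, map_inv, map_inv, mul_comm (par g)]; group

/-- the central involution -/
def z0 : L0 := ⟨negW, negW_mem⟩

/-- the covering map -/
noncomputable def π0 : L0 →* Om Q2 := (π.comp L0.subtype).codRestrict _ fun g => mem_L0'.1 g.2

theorem π0_coe (a : L0) : (π0 a : O Q2) = π a := rfl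

theorem π0_surj : Function.Surjective π0 := fun ⟨x, hx⟩ => by
  obtain ⟨g, rfl⟩ := π_surj x
  exact ⟨⟨g, mem_L0'.2 hx⟩, rfl⟩

theorem π0_z0 : π0 z0 = 1 := Subtype.ext π_negW

theorem ker_π0 {a : L0} : π0 a = 1 ↔ a = 1 ∨ a = z0 := by
  refine ⟨fun h => ?_, ?_⟩
  · rcases ker_π (congrArg Subtype.val h) with e | e
    exacts [Or.inl (Subtype.ext e), Or.inr (Subtype.ext e)]
  · rintro (rfl | rfl); exacts [map_one _, π0_z0]

/-- the centraliser of `L0` -/
theorem cent {w : W} (h : ∀ a : L0, w * a = a * w) : w = 1 ∨ w = negW := by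
  refine ker_π ?_
  have := hyp0.eq_one_or_neg_of_comm nd (by rw [fr]; decide) (g := π w) fun u v => by
    obtain ⟨a, ha⟩ := π0_surj ⟨_, eich_mem_Om nd gd u v⟩
    have ha' : π a = eich Q2 u v := congrArg Subtype.val ha
    rw [← ha', ← map_mul, ← map_mul, h]
  rwa [negO_eq_one_of_two_eq_zero rfl, or_self] at this

theorem cen (a : L0) : a ∈ Subgroup.center L0 ↔ a = 1 ∨ a = z0 := by
  rw [Subgroup.mem_center_iff]
  constructor
  · intro h
    rcases cent (w := a) fun b => (congrArg Subtype.val (h b)).symm with e | e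
    exacts [Or.inl (Subtype.ext e), Or.inr (Subtype.ext e)]
  · rintro (rfl | rfl) b
    · simp
    · exact Subtype.ext (negW_comm b)

theorem z0_sq : z0 * z0 = 1 := Subtype.ext negW_sq

theorem z0_ne : z0 ≠ 1 := fun h => negW_ne (congrArg Subtype.val h)

theorem ord_z0 : orderOf z0 = 2 := orderOf_eq_prime (by rw [pow_two, z0_sq]) z0_ne

theorem z0_comm (a : L0) : a * z0 = z0 * a := Subtype.ext (negW_comm a)

end H52.E8
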