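import Cfsg.Agent.Lib.E8W.Elt
import Cfsg.Agent.Lib.AutCl30.ChevOrth

/-!
A triality automorphism of `Ω₈⁺(2)` and three elements that it permutes.
-/

set_option autoImplicit false
set_option linter.style.haveILetI false

namespace H52.E8

open Matrix QuadraticMap H12 H30 H38 Cfsg Cfsg.Lie

abbrev Ω : Type := Om Q2

theorem center_Ω : Subgroup.center Ω = ⊥ :=
  hyp0.card_center_Om_of_not_mem nd gd (by rw [fr]; decide)
    (Or.inr (negO_eq_one_of_two_eq_zero rfl))

theorem d4_gen (H : Subgroup (O Q2)) (hH : ∀ r < 24, ∀ t, d4X r t ∈ H) : Om Q2 ≤ H := by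
  have hs : ∀ a, ∀ w : ι → F2, w a.swap = 0 → eich Q2 (Pi.single a 1) w ∈ H := by
    intro a w hw
    have h1 : ∀ b, w b • Pi.single b 1 ∈ {v | polar Q2 (Pi.single a 1) v = 0 ∧
        eich Q2 (Pi.single a 1) v ∈ H} := by
      intro b
      by_cases hb : b = a.swap
      · rw [hb, hw, zero_smul]; exact ⟨polar_zero_right _ _, by rw [eich_zero]; exact H.one_mem⟩
      refine ⟨by rw [B_smul_right, polar_single_single hb, mul_zero], ?_⟩
      change sieg a b (w b) ∈ H
      by_cases hb' : b = a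
      · rw [hb', sieg_self]; exact H.one_mem
      obtain ⟨r, hr, p, hp, rfl, rfl, h⟩ := d4R_surj a b hb hb'
      have := hH r hr (p.2.2 * w p.2.1)
      rwa [d4X_eq hr hp, ← mul_assoc, ← Int.cast_mul, h, Int.cast_one, one_mul] at this
    rw [pi_eq_sum_univ' w]
    refine (Finset.sum_induction _ (fun v => polar Q2 (Pi.single a 1) v = 0 ∧
        eich _ (Pi.single a 1) v ∈ H) ?_ ?_ fun b _ => h1 b).2
    · rintro x y ⟨hx, hx'⟩ ⟨hy, hy'⟩
      exact ⟨by rw [polar_add_right, hx, hy, add_zero], by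
        rw [eich_add (QPlus_single a) hx hy]; exact H.mul_mem hx' hy'⟩
    · exact ⟨polar_zero_right _ _, by rw [eich_zero]; exact H.one_mem⟩
  refine hyp0.Om_le nd gd (by rw [fr]; decide) (fun w hw => hs _ w ?_) (fun w hw => hs _ w ?_)
  · exact (polar_QPlus_single _ w).symm.trans hw.1
  · exact (polar_QPlus_single _ w).symm.trans hw.2

theorem d4X_mem (r : ℕ) (t : F2) : d4X r t ∈ Om Q2 := eich_mem_Om nd gd _ _

/-- the root elements in `Ω` -/
noncomputable def X (r : ℕ) (t : F2) : Ω := ⟨d4X r t, d4X_mem r t⟩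

def tau (r : ℕ) : ℕ :=
  [0, 1, 6, 2, 7, 10, 3, 8, 4, 9, 11, 5, 18, 12, 14, 19, 15, 20, 13, 16, 21, 17, 22, 23].getD r 0

theorem tau_ok1 : ∀ r < 24, tau r < 24 ∧ tau (tau (tau r)) = r := by decide +kernel

def TauOk (r s : ℕ) : Prop := tau s ≠ tau r ∧ tau s ≠ chevD4.neg (tau r) ∧
    (chevD4.commTerms (tau r) (tau s)).map (fun c => (c.1, (c.2.1 : F2), c.2.2)) =
      (chevD4.commTerms r s).map (fun c => (tau c.1, (c.2.1 : F2), c.2.2))

instance (r s : ℕ) : Decidable (TauOk r s) := by unfold TauOk; infer_instance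

theorem tau_ok2 : ∀ r < 24, ∀ s < 24, s ≠ r → s ≠ chevD4.neg r → TauOk r s := by decide +kernel

theorem tau_ok : ∀ r < 24, tau r < 24 ∧ tau (tau (tau r)) = r ∧
    ∀ s < 24, s ≠ r → s ≠ chevD4.neg r → TauOk r s := fun r hr =>
  ⟨(tau_ok1 r hr).1, (tau_ok1 r hr).2, tau_ok2 r hr⟩

noncomputable def S0 : StRel chevD4 F2 Ω where
  x := X
  x_add r hr a b := Subtype.ext ((d4St F2).x_add r hr a b)
  comm r hr s hs h1 h2 t u := Subtype.ext (by
    have := (d4St F2).comm r hr s hs h1 h2 t u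
    rw [Subgroup.coe_mul, Subgroup.coe_mul, Subgroup.coe_mul, SubmonoidClass.coe_list_prod,
      List.map_map]
    exact this)

noncomputable def S1 : StRel chevD4 F2 Ω where
  x r := X (tau r)
  x_add r hr a b := S0.x_add _ (tau_ok r hr).1 a b
  comm r hr s hs h1 h2 t u := by
    obtain ⟨h3, h4, h5⟩ := (tau_ok r hr).2.2 s hs h1 h2
    have := S0.comm _ (tau_ok r hr).1 _ (tau_ok s hs).1 h3 h4 t u
    refine this.trans ?_
    congr 2
    have h6 := congrArg (List.map fun c : ℕ × F2 × ℕ × ℕ =>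
      X c.1 (c.2.1 * (-t) ^ c.2.2.1 * u ^ c.2.2.2)) h5
    simp only [List.map_map, ChevalleyDatum.commWord] at h6 ⊢
    exact h6

theorem nontrivial_Ω : Nontrivial Ω := by
  by_contra h
  rw [not_nontrivial_iff_subsingleton] at h
  have := hyp0.center_Om_ne_top nd gd (by rw [fr]; decide)
  exact this (Subsingleton.elim _ _)

theorem lift_ker (S : StRel chevD4 F2 Ω) (R : RootSys chevD4)
    (hS : ∀ r < 24, ∀ t, ∃ s < 24, S.x s t = X r t) :
    Function.Surjective (S.liftAB R) ∧ (S.liftAB R).ker = Subgroup.center _ := by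
  have hD : chevD4 ∈ [chevG2, chevB2, chevD4, chevF4, chevE6, chevE7, chevE8] := by simp
  have h2 : chevD4 = chevG2 ∨ chevD4 = chevB2 → ∃ a : F2, a ≠ 0 ∧ a ≠ 1 := fun h => by
    rcases h with h | h <;> exact absurd (congrArg ChevalleyDatum.rank h) (by decide)
  obtain ⟨R', E, hE⟩ := exists_isMat hD F2
  have hs : Function.Surjective (S.liftAB R) := fun ⟨y, hy⟩ => by
    obtain ⟨_, ⟨x, rfl⟩, e⟩ := d4_gen ((S.liftAB R).range.map (Om Q2).subtype) (fun r hr t => by
      obtain ⟨s, hs, e⟩ := hS r hr t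
      exact ⟨X r t, ⟨_, (S.liftAB_scGen R hs t).trans e⟩, rfl⟩) hy
    exact ⟨x, Subtype.ext e⟩
  have hle : Subgroup.center _ ≤ (S.liftAB R).ker := fun z hz => by
    rw [MonoidHom.mem_ker, ← Subgroup.mem_bot, ← center_Ω, Subgroup.mem_center_iff]
    intro g
    obtain ⟨g, rfl⟩ := hs g
    rw [← map_mul, ← map_mul, Subgroup.mem_center_iff.1 hz g]
  refine ⟨hs, le_antisymm ?_ hle⟩
  have hsimple := (hE.simple hD h2).1
  rcases hsimple.eq_bot_or_eq_top_of_normal ((S.liftAB R).ker.map hE.θAB)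
    (Subgroup.Normal.map inferInstance _ (hE.θAB_surjective hD)) with h | h
  · rw [← hE.θAB_ker hD]; exact (Subgroup.map_eq_bot_iff _).1 h
  · exfalso
    haveI := nontrivial_Ω
    obtain ⟨y, hy⟩ := exists_ne (1 : Ω)
    obtain ⟨x, rfl⟩ := hs y
    obtain ⟨k, hk, e⟩ : hE.θAB x ∈ (S.liftAB R).ker.map hE.θAB := by rw [h]; trivial
    have : k⁻¹ * x ∈ hE.θAB.ker := by rw [MonoidHom.mem_ker, map_mul, map_inv, e, inv_mul_cancel]
    rw [hE.θAB_ker hD] at this
    have h3 := mul_mem hk (hle this)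
    rw [mul_inv_cancel_left] at h3
    exact hy h3

theorem exists_tri : ∃ T : MulAut Ω, ∀ r < 24, ∀ t, T (X r t) = X (tau r) t := by
  obtain ⟨R, -⟩ := exists_isMat (D := chevD4) (by simp) F2
  obtain ⟨s0, k0⟩ := lift_ker S0 R fun r hr t => ⟨r, hr, rfl⟩
  obtain ⟨s1, k1⟩ := lift_ker S1 R fun r hr t =>
    ⟨tau (tau r), (tau_ok _ (tau_ok r hr).1).1, by
      show X (tau (tau (tau r))) t = _
      rw [(tau_ok r hr).2.1]⟩
  let T : Ω →* Ω := (S0.liftAB R).liftOfSurjective s0 ⟨S1.liftAB R, by rw [k0, k1]⟩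
  have hT : ∀ x, T (S0.liftAB R x) = S1.liftAB R x := fun x =>
    MonoidHom.liftOfRightInverse_comp_apply _ _ _ _ x
  have hs : Function.Surjective T := fun y => by
    obtain ⟨x, rfl⟩ := s1 y
    exact ⟨_, hT x⟩
  refine ⟨MulEquiv.ofBijective T ⟨Finite.injective_iff_surjective.2 hs, hs⟩, fun r hr t => ?_⟩
  have := hT (chevD4.scGen F2 r t)
  rwa [S0.liftAB_scGen R hr, S1.liftAB_scGen R hr] at this

theorem sieg_apply {a b : ι} (h : b ≠ a.swap) (x : ι → F2) :
    (sieg a b (1 : F2)).1 x = x + x b.swap • Pi.single a 1 - x a.swap • Pi.single b 1 := by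
  rw [sieg, one_smul, eich_apply (QPlus_single a) (polar_single_single h), QPlus_single, zero_mul,
    zero_smul, sub_zero, polar_comm, polar_QPlus_single, polar_comm, polar_QPlus_single]

/-- the matrix of a Siegel transformation -/
def siegM (a b : ι) : Matrix ι ι F2 := 1 + single a b.swap 1 - single b a.swap 1

theorem sieg_mat {a b : ι} (h : b ≠ a.swap) (x : ι → F2) :
    (sieg a b (1 : F2)).1 x = siegM a b *ᵥ x := by
  rw [sieg_apply h, siegM, sub_mulVec, add_mulVec, one_mulVec, single_mulVec, single_mulVec]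
  congr 2 <;> (funext i; simp [Pi.single_apply, Function.update_apply])

theorem π0_eq {n : ℕ} (hn : Gd n) {r s : ℕ} {a b c d : ι} (hr : d4X r (1 : F2) = sieg a b 1)
    (hs : d4X s (1 : F2) = sieg c d 1) (h1 : b ≠ a.swap) (h2 : d ≠ c.swap)
    (h : (dec n).map (Int.castRingHom F2) = siegM a b * siegM c d) :
    π0 (E0 n) = X r 1 * X s 1 := Subtype.ext (O.ext fun x => by
  rw [π0_coe, π_apply, mat_E0 hn, h, ← mulVec_mulVec, ← sieg_mat h2, ← sieg_mat h1, ← hr, ← hs]
  rfl)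

def ca0 : ℕ := 0x8cdd0941ce846108421084230842108421184210836507c2527be507be5284210842308421084211
def ca1 : ℕ := 0x6ba10649cc7460e741d0732757424e849cd841d093e549ba928ca1093e1284a0e841f2949ce941f1
def ca2 : ℕ := 0x5be5063a0e7460e741d0732757424e849cd841d0a3a149ca50942108c61284a0e841f2949ce941f1

theorem gd_a0 : Gd ca0 :=
  gd_of (y := 0x8ba5693e6e8ba1284a0e94213942308420f8421084dcc841d2845cd7c9b07bdef749ce845ed841f1)
    (z := 0x8c9b08c9ac7ca1083df08c5f09420e842118421083a5083e72742507ba327425073e128421084211)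
    (by decide +kernel)

theorem gd_a1 : Gd ca1 :=
  gd_of (y := 0x9329283eb57be727be52ab9d2a464f742507421194d4e9c98b7c9d0845ad6c63073df07460f745cf)
    (z := 0x9b5d18ca2d83dee7c2109b9f49ca2d7c20e741f17ca328c1f07ca0e83df27c60d7be127462e73df2)
    (by decide +kernel)

theorem gd_a2 : Gd ca2 :=
  gd_of (y := 0x9329283eb57be727be52ab9d2a464f742507421194d4e9c98b7c9d0845ad6c63073df07460f745cf)
    (z := 0x945d09ba2f9c5cf9c2116be347ba2c945ee8c5f263a736460e83e107c9f0941ee8c6128c5ee849d1)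
    (by decide +kernel)

theorem X18 : d4X 18 (1 : F2) = sieg (.inl 0) (.inr 1) 1 := rfl
theorem X13 : d4X 13 (1 : F2) = sieg (.inl 2) (.inr 3) 1 := rfl
theorem X12 : d4X 12 (1 : F2) = sieg (.inl 2) (.inl 3) 1 := rfl

/-- triality moves the class of a lifted involution to classes lifting to order 4 -/
theorem exists_tri' : ∃ (T : MulAut Ω) (a0 a1 a2 : L0), T (π0 a0) = π0 a1 ∧ T (π0 a1) = π0 a2 ∧
    T (π0 a2) = π0 a0 ∧ a0 * a0 = 1 ∧ a1 * a1 = z0 ∧ a2 * a2 = z0 := by
  obtain ⟨T, hT⟩ := exists_tri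
  have e0 := π0_eq gd_a0 X13 X12 (by decide) (by decide) (by decide +kernel)
  have e1 := π0_eq gd_a1 X12 X18 (by decide) (by decide) (by decide +kernel)
  have e2 := π0_eq gd_a2 X18 X13 (by decide) (by decide) (by decide +kernel)
  refine ⟨T, E0 ca0, E0 ca1, E0 ca2, ?_, ?_, ?_, ?_, ?_, ?_⟩
  · rw [e0, e1, map_mul, hT 13 (by decide), hT 12 (by decide)]; rfl
  · rw [e1, e2, map_mul, hT 12 (by decide), hT 18 (by decide)]; rfl
  · rw [e2, e0, map_mul, hT 18 (by decide), hT 13 (by decide)]; rfl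
  · rw [← E0_cI]; exact (gd_a0.mul gd_a0 (by decide +kernel)).2
  · rw [← E0_cN]; exact (gd_a1.mul gd_a1 (by decide +kernel)).2
  · rw [← E0_cN]; exact (gd_a2.mul gd_a2 (by decide +kernel)).2

end H52.E8
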